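import Groth.Prelude.Def_ConstAct
import Mathlib.RingTheory.Flat.Basic
import Mathlib.RingTheory.Nakayama
import Mathlib.RingTheory.LocalRing.MaximalIdeal.Basic
import Mathlib.RingTheory.Filtration
import Mathlib.RingTheory.IntegralClosure.IsIntegralClosure.Basic
import Mathlib.LinearAlgebra.Dimension.FreeAndStrongRankCondition
import Mathlib.GroupTheory.OrderOfElement
import Mathlib.LinearAlgebra.Dimension.RankNullity
import Mathlib.RingTheory.Ideal.GoingUp
import Mathlib.RingTheory.Nilpotent.Lemmas

/-!
Finite groups generated by pseudo-reflections: the ring is free over the invariants.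
-/

set_option autoImplicit false
set_option linter.style.haveILetI false

noncomputable section

open IsLocalRing

universe u v

namespace Groth.Agent.ConstAct26

variable {k : Type u} [Field k] {A : Type u} [CommRing A] [Algebra k A] {G : Type v} [Group G]
  [MulSemiringAction G A] [SMulCommClass G k A]

variable (k A G) in
/-- The ring of invariants. -/
abbrev B : Subalgebra k A := ConstAct.inv k A G

theorem smul_algebraMap' (g : G) (c : k) : g • algebraMap k A c = algebraMap k A c := by
  rw [Algebra.algebraMap_eq_smul_one, smul_comm, smul_one]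

theorem smul_coe (g : G) (b : B k A G) : g • (b : A) = b := b.2 g

section Local

variable [IsLocalRing A]

theorem smul_mem_maximalIdeal (g : G) {a : A} (ha : a ∈ maximalIdeal A) : g • a ∈ maximalIdeal A := by
  rw [mem_maximalIdeal, mem_nonunits_iff] at ha ⊢
  intro hu
  have h := hu.map (MulSemiringAction.toRingHom G A g⁻¹)
  rw [MulSemiringAction.toRingHom_apply, inv_smul_smul] at h
  exact ha h

theorem isUnit_coe_iff (b : B k A G) : IsUnit (b : A) ↔ IsUnit b := by
  refine ⟨fun h => ?_, fun h => h.map (B k A G).val⟩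
  obtain ⟨w, hw⟩ := h.exists_right_inv
  have hmem : w ∈ B k A G := fun g => by
    have h1 : (b : A) * (g • w) = 1 := by
      rw [← smul_coe g b, ← MulSemiringAction.smul_mul, hw, smul_one]
    exact (h.mul_right_inj).1 (h1.trans hw.symm)
  exact IsUnit.of_mul_eq_one (⟨w, hmem⟩ : B k A G) (Subtype.ext hw)

theorem isLocalRing_inv : IsLocalRing (B k A G) := by
  refine IsLocalRing.of_isUnit_or_isUnit_one_sub_self fun b => ?_
  rcases IsLocalRing.isUnit_or_isUnit_one_sub_self (b : A) with h | h
  · exact Or.inl ((isUnit_coe_iff b).1 h)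
  · exact Or.inr ((isUnit_coe_iff (1 - b)).1 h)

/-- A pseudo-reflection moves everything by multiples of one element. -/
theorem exists_principal [Finite G] [IsNoetherianRing A] (hG : (Nat.card G : k) ≠ 0)
    (hres : ∀ a : A, ∃ c : k, a - algebraMap k A c ∈ maximalIdeal A) (g : G)
    (hg : ∃ v : A, ∀ a : A, ∃ c : k, g • a - a - c • v ∈ maximalIdeal A ^ 2) :
    ∃ ℓ ∈ maximalIdeal A, ∀ a : A, g • a - a ∈ Ideal.span {ℓ} := by
  classical
  have hm : ∀ a : A, g • a - a ∈ maximalIdeal A := fun a => by
    obtain ⟨c, hc⟩ := hres a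
    have h := (maximalIdeal A).sub_mem (smul_mem_maximalIdeal g hc) hc
    rwa [smul_sub, smul_algebraMap', sub_sub_sub_cancel_right] at h
  have hpow : ∀ (j : ℕ) (a : A), a ∈ maximalIdeal A ^ j → ∀ x : G, x • a ∈ maximalIdeal A ^ j := fun j a ha x => by
    have h : (maximalIdeal A ^ j).map (MulSemiringAction.toRingHom G A x) ≤ maximalIdeal A ^ j := by
      rw [Ideal.map_pow]
      exact Ideal.pow_right_mono (Ideal.map_le_iff_le_comap.2 fun y hy => by
        show x • y ∈ maximalIdeal A
        exact smul_mem_maximalIdeal x hy) j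
    exact h (Ideal.mem_map_of_mem _ ha)
  let d := orderOf g
  have hd0 : (d : k) ≠ 0 := fun h => hG (by
    obtain ⟨q, hq⟩ := orderOf_dvd_natCard g
    rw [hq, Nat.cast_mul]
    exact mul_eq_zero_of_left h _)
  have hdA : IsUnit (d : A) := by
    rw [← map_natCast (algebraMap k A) d]
    exact (isUnit_iff_ne_zero.2 hd0).map _
  obtain ⟨v, hv⟩ := hg
  -- an eigenvector modulo the square of the maximal ideal
  obtain ⟨ℓ, lam, hℓm, hℓg, hℓ⟩ : ∃ (ℓ : A) (lam : k), ℓ ∈ maximalIdeal A ∧ g • ℓ = lam • ℓ ∧
      ∀ a : A, g • a - a ∈ Ideal.span {ℓ} ⊔ maximalIdeal A ^ 2 := by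
    by_cases hall : ∀ a : A, g • a - a ∈ maximalIdeal A ^ 2
    · exact ⟨0, 1, zero_mem _, by simp, fun a => Ideal.mem_sup_right (hall a)⟩
    simp only [not_forall] at hall
    obtain ⟨u, hu⟩ := hall
    obtain ⟨cu, hcu⟩ := hv u
    have hcu0 : cu ≠ 0 := fun h => hu (by rwa [h, zero_smul, sub_zero] at hcu)
    have hvm : v ∈ maximalIdeal A := by
      have h : cu • v ∈ maximalIdeal A := by
        have := (maximalIdeal A).sub_mem (hm u) (Ideal.pow_le_self two_ne_zero hcu)
        rwa [sub_sub_cancel] at this
      have := Submodule.smul_of_tower_mem (maximalIdeal A) cu⁻¹ h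
      rwa [inv_smul_smul₀ hcu0] at this
    obtain ⟨mu, hmu⟩ := hv v
    let lam := 1 + mu
    have hgv : g • v - lam • v ∈ maximalIdeal A ^ 2 := by
      rw [show g • v - lam • v = g • v - v - mu • v by simp only [lam, add_smul, one_smul]; abel]
      exact hmu
    have hiter : ∀ i : ℕ, g ^ i • v - lam ^ i • v ∈ maximalIdeal A ^ 2 := fun i => by
      induction i with
      | zero => simp
      | succ i ih =>
        have h1 := hpow 2 _ ih g
        rw [smul_sub, ← mul_smul, ← pow_succ', smul_comm] at h1
        have h2 := Submodule.smul_of_tower_mem (maximalIdeal A ^ 2) (lam ^ i) hgv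
        have h3 := (maximalIdeal A ^ 2).add_mem h1 h2
        rwa [smul_sub, smul_smul, ← pow_succ, sub_add_sub_cancel] at h3
    have hlam : lam ^ d = 1 := by
      by_contra hne
      have h := hiter d
      rw [pow_orderOf_eq_one, one_smul, show v - lam ^ d • v = (1 - lam ^ d) • v by rw [sub_smul, one_smul]] at h
      have h' := Submodule.smul_of_tower_mem (maximalIdeal A ^ 2) (1 - lam ^ d)⁻¹ h
      rw [inv_smul_smul₀ (sub_ne_zero.2 fun e => hne e.symm)] at h'
      refine hu ?_
      have h4 := (maximalIdeal A ^ 2).add_mem hcu (Submodule.smul_of_tower_mem (maximalIdeal A ^ 2) cu h')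
      rwa [sub_add_cancel] at h4
    have hlam0 : lam ≠ 0 := fun h => by
      rw [h, zero_pow (orderOf_pos g).ne'] at hlam
      exact zero_ne_one hlam
    let ℓ : A := (d : k)⁻¹ • ∑ i ∈ Finset.range d, (lam⁻¹) ^ i • g ^ i • v
    refine ⟨ℓ, lam, ?_, ?_, ?_⟩
    · exact Submodule.smul_of_tower_mem _ _ (sum_mem fun i _ =>
        Submodule.smul_of_tower_mem _ _ (smul_mem_maximalIdeal _ hvm))
    · show g • ((d : k)⁻¹ • ∑ i ∈ Finset.range d, (lam⁻¹) ^ i • g ^ i • v) = _
      rw [smul_comm g, Finset.smul_sum, smul_comm lam ((d : k)⁻¹)]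
      congr 1
      rw [Finset.smul_sum]
      let f : ℕ → A := fun i => lam • (lam⁻¹) ^ i • g ^ i • v
      have hf : ∀ i, g • (lam⁻¹) ^ i • g ^ i • v = f (i + 1) := fun i => by
        show _ = lam • (lam⁻¹) ^ (i + 1) • g ^ (i + 1) • v
        rw [smul_comm g, pow_succ' (lam⁻¹), mul_smul, smul_inv_smul₀ hlam0, pow_succ', mul_smul]
      have hfd : f d = f 0 := by
        show lam • (lam⁻¹) ^ d • g ^ d • v = lam • (lam⁻¹) ^ 0 • g ^ 0 • v
        rw [inv_pow, hlam, inv_one, pow_orderOf_eq_one, pow_zero, pow_zero]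
      rw [Finset.sum_congr rfl fun i _ => hf i]
      have h2 := Finset.sum_range_succ f d
      rw [Finset.sum_range_succ', hfd] at h2
      exact add_right_cancel h2
    · have hℓv : ℓ - v ∈ maximalIdeal A ^ 2 := by
        have e : v = (d : k)⁻¹ • ∑ i ∈ Finset.range d, (lam⁻¹) ^ i • lam ^ i • v := by
          simp only [smul_smul, inv_pow, inv_mul_cancel₀ (pow_ne_zero _ hlam0), one_smul, Finset.sum_const,
            Finset.card_range]
          rw [← Nat.cast_smul_eq_nsmul k d v, smul_smul, inv_mul_cancel₀ hd0, one_smul]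
        show (d : k)⁻¹ • _ - v ∈ _
        rw [show ∀ z : A, z - v = z - (d : k)⁻¹ • ∑ i ∈ Finset.range d, (lam⁻¹) ^ i • lam ^ i • v from
          fun z => by rw [← e], ← smul_sub, ← Finset.sum_sub_distrib]
        refine Submodule.smul_of_tower_mem _ _ (sum_mem fun i _ => ?_)
        rw [← smul_sub]
        exact Submodule.smul_of_tower_mem _ _ (hiter i)
      intro a
      obtain ⟨c, hc⟩ := hv a
      refine Submodule.mem_sup.2 ⟨c • ℓ, Submodule.smul_of_tower_mem _ _ (Ideal.mem_span_singleton_self ℓ),
        g • a - a - c • ℓ, ?_, add_sub_cancel _ _⟩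
      rw [show g • a - a - c • ℓ = (g • a - a - c • v) - c • (ℓ - v) by rw [smul_sub]; abel]
      exact sub_mem hc (Submodule.smul_of_tower_mem _ _ hℓv)
  refine ⟨ℓ, hℓm, ?_⟩
  -- the group element acts trivially modulo `ℓ`
  let I : Ideal A := Ideal.span {ℓ}
  let J : ℕ → Ideal A := fun j => I ⊔ maximalIdeal A ^ j
  have hJg : ∀ (j : ℕ) (a : A), a ∈ J j → g • a ∈ J j := fun j a ha => by
    obtain ⟨x, hx, y, hy, rfl⟩ := Submodule.mem_sup.1 ha
    obtain ⟨r, rfl⟩ := Ideal.mem_span_singleton'.1 hx
    rw [smul_add, MulSemiringAction.smul_mul, hℓg]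
    refine add_mem (Ideal.mem_sup_left ?_) (Ideal.mem_sup_right (hpow j y hy g))
    exact I.mul_mem_left _ (Submodule.smul_of_tower_mem _ _ (Ideal.mem_span_singleton_self ℓ))
  have hgr : ∀ j, ∀ a ∈ maximalIdeal A ^ j, g • a - a ∈ J (j + 1) := fun j a ha => by
    induction j generalizing a with
    | zero => exact Ideal.mem_sup_right (by rw [pow_one]; exact hm a)
    | succ j ih =>
      rw [pow_succ] at ha
      refine Submodule.mul_induction_on ha (fun x hx y hy => ?_) fun x y hx hy => ?_
      · rw [MulSemiringAction.smul_mul, show g • x * g • y - x * y = (g • x - x) * g • y + x * (g • y - y) by ring]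
        refine add_mem ?_ ?_
        · obtain ⟨p, hp, q, hq, e⟩ := Submodule.mem_sup.1 (ih x hx)
          rw [← e, add_mul]
          refine add_mem (Ideal.mem_sup_left (I.mul_mem_right _ hp)) (Ideal.mem_sup_right ?_)
          rw [pow_succ]
          exact Ideal.mul_mem_mul hq (smul_mem_maximalIdeal g hy)
        · obtain ⟨p, hp, q, hq, e⟩ := Submodule.mem_sup.1 (hℓ y)
          rw [← e, mul_add]
          refine add_mem (Ideal.mem_sup_left (I.mul_mem_left _ hp)) (Ideal.mem_sup_right ?_)
          rw [show j + 1 + 1 = j + 2 by omega, pow_add]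
          exact Ideal.mul_mem_mul hx hq
      · rw [smul_add, add_sub_add_comm]; exact add_mem hx hy
  have key : ∀ j, 2 ≤ j → ∀ a : A, g • a - a ∈ J j := fun j hj => by
    induction j, hj using Nat.le_induction with
    | base => exact hℓ
    | succ j hj ih =>
      intro a
      let y := g • a - a
      have hy : g • y - y ∈ J (j + 1) := by
        obtain ⟨p, hp, q, hq, e⟩ := Submodule.mem_sup.1 (ih a)
        rw [show y = p + q from e.symm, smul_add, add_sub_add_comm]
        refine add_mem ?_ (hgr j q hq)
        obtain ⟨r, rfl⟩ := Ideal.mem_span_singleton'.1 hp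
        refine Ideal.mem_sup_left (sub_mem ?_ (I.mul_mem_left _ (Ideal.mem_span_singleton_self ℓ)))
        rw [MulSemiringAction.smul_mul, hℓg]
        exact I.mul_mem_left _ (Submodule.smul_of_tower_mem _ _ (Ideal.mem_span_singleton_self ℓ))
      have hit : ∀ i : ℕ, g ^ i • a - a - (i : A) * y ∈ J (j + 1) := fun i => by
        induction i with
        | zero => simp
        | succ i ihi =>
          have h1 := hJg _ _ ihi
          rw [smul_sub, smul_sub, MulSemiringAction.smul_mul, ← mul_smul, ← pow_succ',
            show g • (i : A) = i from map_natCast (MulSemiringAction.toRingHom G A g) i] at h1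
          have h2 := add_mem h1 ((J (j + 1)).mul_mem_left (i : A) hy)
          rw [show g ^ (i + 1) • a - a - ((i + 1 : ℕ) : A) * y =
            g ^ (i + 1) • a - g • a - (i : A) * g • y + (i : A) * (g • y - y) by push_cast; simp only [y]; ring]
          exact h2
      have h3 := hit d
      rw [pow_orderOf_eq_one, one_smul, sub_self, zero_sub, neg_mem_iff] at h3
      exact (Ideal.unit_mul_mem_iff_mem _ hdA).1 h3
  intro a
  have hne : I ≠ ⊤ := fun h =>
    (maximalIdeal.isMaximal A).ne_top (top_le_iff.1 (h ▸ (Ideal.span_le.2 (by simpa using hℓm))))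
  haveI : Nontrivial (A ⧸ I) := Ideal.Quotient.nontrivial_iff.2 hne
  haveI : IsLocalRing (A ⧸ I) := IsLocalRing.of_surjective' (Ideal.Quotient.mk I) Ideal.Quotient.mk_surjective
  have h0 : Ideal.Quotient.mk I (g • a - a) ∈ ⨅ j : ℕ, (maximalIdeal A).map (Ideal.Quotient.mk I) ^ j := by
    rw [Submodule.mem_iInf]
    intro j
    rw [← Ideal.map_pow]
    obtain ⟨p, hp, q, hq, e⟩ := Submodule.mem_sup.1 (key (j + 2) (by omega) a)
    rw [← e, map_add, Ideal.Quotient.eq_zero_iff_mem.2 hp, zero_add]
    exact Ideal.mem_map_of_mem _ (Ideal.pow_le_pow_right (by omega) hq)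
  rw [Ideal.iInf_pow_eq_bot_of_isLocalRing _ fun h => ?_, Ideal.mem_bot, Ideal.Quotient.eq_zero_iff_mem] at h0
  · exact h0
  · rw [← Ideal.map_top (Ideal.Quotient.mk I),
      (Ideal.comap_injective_of_surjective _ Ideal.Quotient.mk_surjective).eq_iff.symm] at h
    rw [Ideal.comap_map_of_surjective _ Ideal.Quotient.mk_surjective,
      Ideal.comap_map_of_surjective _ Ideal.Quotient.mk_surjective, ← RingHom.ker_eq_comap_bot,
      Ideal.mk_ker, top_sup_eq] at h
    exact (maximalIdeal.isMaximal A).ne_top (top_le_iff.1 (h ▸ sup_le le_rfl (Ideal.span_le.2 (by simpa using hℓm))))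

end Local

section Trace

variable [Fintype G]

variable (k A G) in
/-- The trace to the invariants. -/
def tr : A →ₗ[B k A G] B k A G where
  toFun a := ⟨∑ g : G, g • a, fun h => by
    rw [Finset.smul_sum]
    exact Fintype.sum_equiv (Equiv.mulLeft h) _ _ fun g => (mul_smul h g a).symm⟩
  map_add' a b := Subtype.ext (by
    simp only [smul_add, Finset.sum_add_distrib]; rfl)
  map_smul' r a := Subtype.ext (by
    show ∑ g : G, g • ((r : A) * a) = (r : A) * ∑ g : G, g • a
    simp only [MulSemiringAction.smul_mul, smul_coe, Finset.mul_sum])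

theorem tr_coe (b : B k A G) : tr k A G (b : A) = (Fintype.card G : B k A G) * b := by
  refine Subtype.ext ?_
  show ∑ g : G, g • (b : A) = _
  simp only [smul_coe, Finset.sum_const, Finset.card_univ, nsmul_eq_mul]
  rfl

theorem isNoetherianRing_inv [IsNoetherianRing A] (hG : (Nat.card G : k) ≠ 0) : IsNoetherianRing (B k A G) := by
  have hN : IsUnit (Fintype.card G : B k A G) := by
    rw [← map_natCast (algebraMap k (B k A G))]
    exact (isUnit_iff_ne_zero.2 (by rwa [Nat.card_eq_fintype_card] at hG)).map _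
  have hinj : Function.Injective fun I : Ideal (B k A G) => I.map (algebraMap (B k A G) A) := by
    suffices h : ∀ I : Ideal (B k A G), (I.map (algebraMap (B k A G) A)).comap (algebraMap (B k A G) A) = I by
      exact Function.LeftInverse.injective h
    intro I
    refine le_antisymm (fun b hb => ?_) Ideal.le_comap_map
    have key : ∀ x ∈ I.map (algebraMap (B k A G) A), tr k A G x ∈ I := by
      intro x hx
      rw [Ideal.map] at hx
      induction hx using Submodule.span_induction with
      | mem x hx =>
        obtain ⟨i, hi, rfl⟩ := hx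
        rw [show algebraMap (B k A G) A i = (i : A) from rfl, tr_coe]
        exact I.mul_mem_left _ hi
      | zero => rw [map_zero]; exact zero_mem _
      | add x y _ _ h1 h2 => rw [map_add]; exact add_mem h1 h2
      | smul r x hx _ =>
        have key' : ∀ z ∈ Submodule.span A ((algebraMap (B k A G) A) '' I), ∀ s : A, tr k A G (s * z) ∈ I := by
          intro z hz
          induction hz using Submodule.span_induction with
          | mem z hz =>
            obtain ⟨i, hi, rfl⟩ := hz
            intro s
            rw [mul_comm, ← Algebra.smul_def, map_smul, smul_eq_mul]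
            exact I.mul_mem_right _ hi
          | zero => intro s; rw [mul_zero, map_zero]; exact zero_mem _
          | add z w _ _ h1 h2 => intro s; rw [mul_add, map_add]; exact add_mem (h1 s) (h2 s)
          | smul r z _ h1 => intro s; rw [smul_eq_mul, ← mul_assoc]; exact h1 _
        exact key' x hx r
    have h1 := key _ hb
    rw [show algebraMap (B k A G) A b = (b : A) from rfl, tr_coe] at h1
    exact (Ideal.unit_mul_mem_iff_mem I hN).1 h1
  let e : Ideal (B k A G) →o Ideal A := ⟨fun I => I.map (algebraMap (B k A G) A), fun I J h => Ideal.map_mono h⟩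
  haveI : WellFoundedGT (Ideal (B k A G)) := (e.monotone.strictMono_of_injective hinj).wellFoundedGT
  exact isNoetherianRing_iff.2 (isNoetherian_iff'.2 inferInstance)

end Trace

section Free

variable [IsLocalRing A] [IsNoetherianRing A] [IsDomain A] [Finite G] [Module.Finite (B k A G) A]

theorem exists_pow_le :
    haveI := isLocalRing_inv (k := k) (A := A) (G := G)
    ∃ N, maximalIdeal A ^ N ≤ (maximalIdeal (B k A G)).map (algebraMap (B k A G) A) := by
  haveI := isLocalRing_inv (k := k) (A := A) (G := G)
  refine Ideal.exists_pow_le_of_le_radical_of_fg ?_ (IsNoetherian.noetherian _)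
  rw [Ideal.radical_eq_sInf]
  refine le_sInf fun p hp => ?_
  haveI := hp.2
  haveI : Algebra.IsIntegral (B k A G) A := Algebra.IsIntegral.of_finite _ _
  have hc : (p.comap (algebraMap (B k A G) A)).IsMaximal := by
    have h := Ideal.map_le_iff_le_comap.1 hp.1
    rw [← (maximalIdeal.isMaximal (B k A G)).eq_of_le (Ideal.IsPrime.comap _).ne_top h]
    exact maximalIdeal.isMaximal _
  rw [IsLocalRing.eq_maximalIdeal (Ideal.isMaximal_of_isIntegral_of_isMaximal_comap p hc)]

/-- The ring is flat over the invariants of a group generated by pseudo-reflections. -/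
theorem flat_of_generated (hG : (Nat.card G : k) ≠ 0) (hfaith : ∀ g : G, (∀ a : A, g • a = a) → g = 1)
    (s : Set G) (hs : Subgroup.closure s = ⊤) (hℓ : ∀ g ∈ s, ∃ ℓ ∈ maximalIdeal A, ∀ a : A, g • a - a ∈ Ideal.span {ℓ}) :
    Module.Flat (B k A G) A := by
  classical
  haveI := Fintype.ofFinite G
  haveI := isNoetherianRing_inv (k := k) (A := A) (G := G) hG
  haveI := isLocalRing_inv (k := k) (A := A) (G := G)
  let M := maximalIdeal (B k A G)
  have hex : ∃ r : ℕ, ∃ x : Fin r → A, Submodule.span (B k A G) (Set.range x) = ⊤ :=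
    Module.Finite.exists_fin
  let r := Nat.find hex
  obtain ⟨x, hx⟩ := Nat.find_spec hex
  let π : (Fin r → B k A G) →ₗ[B k A G] A := Fintype.linearCombination (B k A G) x
  have hπ : Function.Surjective π := by
    rw [← LinearMap.range_eq_top, Fintype.range_linearCombination]; exact hx
  let K := LinearMap.ker π
  have hmin : ∀ c ∈ K, ∀ i, c i ∈ M := by
    intro c hc i
    by_contra hi
    rw [mem_maximalIdeal, mem_nonunits_iff, not_not] at hi
    have hK0 : ∑ j, c j • x j = 0 := by
      have := LinearMap.mem_ker.1 hc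
      rwa [Fintype.linearCombination_apply] at this
    obtain ⟨r', hr'⟩ : ∃ r', r = r' + 1 := ⟨r - 1, by have := i.isLt; omega⟩
    have hlt : r' < r := by omega
    let e : Fin (r' + 1) ≃ Fin r := finCongr hr'.symm
    refine Nat.find_min hex hlt ⟨fun j => x (e ((e.symm i).succAbove j)), ?_⟩
    rw [eq_top_iff, ← hx, Submodule.span_le]
    rintro _ ⟨j, rfl⟩
    by_cases hj : j = i
    · subst hj
      rw [← Finset.sum_erase_add _ _ (Finset.mem_univ j), add_eq_zero_iff_eq_neg] at hK0
      have h2 : x j = (↑hi.unit⁻¹ : B k A G) • (-(∑ l ∈ Finset.univ.erase j, c l • x l)) := by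
        rw [hK0, neg_neg, smul_smul, IsUnit.val_inv_mul, one_smul]
      rw [SetLike.mem_coe, h2]
      refine Submodule.smul_mem _ _ (Submodule.neg_mem _ (Submodule.sum_mem _ fun l hl => Submodule.smul_mem _ _ ?_))
      obtain ⟨t, ht⟩ := Fin.exists_succAbove_eq (fun h : e.symm l = e.symm j =>
        (Finset.mem_erase.1 hl).1 (e.symm.injective h))
      exact Submodule.subset_span ⟨t, by simp [ht]⟩
    · obtain ⟨t, ht⟩ := Fin.exists_succAbove_eq (fun h : e.symm j = e.symm i => hj (e.symm.injective h))
      exact Submodule.subset_span ⟨t, by simp [ht]⟩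
  have hKF : ∀ c ∈ K, c ∈ M • (⊤ : Submodule (B k A G) (Fin r → B k A G)) := fun c hc => by
    rw [← Finset.univ_sum_single c]
    refine Submodule.sum_mem _ fun i _ => ?_
    rw [show (Pi.single i (c i) : Fin r → B k A G) = c i • Pi.single i 1 by
      rw [← Pi.single_smul', smul_eq_mul, mul_one]]
    exact Submodule.smul_mem_smul (hmin c hc i) Submodule.mem_top
  choose L hL using fun φ : A →ₗ[B k A G] A => Module.projective_lifting_property π (φ ∘ₗ π) hπ
  have hLK : ∀ φ, ∀ c ∈ K, L φ c ∈ K := fun φ c hc => by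
    rw [LinearMap.mem_ker]
    have h := LinearMap.congr_fun (hL φ) c
    simp only [LinearMap.comp_apply] at h
    rw [h, LinearMap.mem_ker.1 hc, map_zero]
  -- two lifts agree on `K` modulo `M • K`
  have hdiff : ∀ h : (Fin r → B k A G) →ₗ[B k A G] (Fin r → B k A G), π ∘ₗ h = 0 → ∀ c ∈ K, h c ∈ M • K := by
    intro h hh c hc
    have h1 := Submodule.mem_map_of_mem (f := h) (hKF c hc)
    rw [Submodule.map_smul''] at h1
    refine Submodule.smul_mono le_rfl ?_ h1
    rintro _ ⟨z, -, rfl⟩
    exact LinearMap.congr_fun hh z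
  have hlift : ∀ φ, ∀ f : (Fin r → B k A G) →ₗ[B k A G] (Fin r → B k A G), π ∘ₗ f = φ ∘ₗ π →
      ∀ c ∈ K, f c - L φ c ∈ M • K := fun φ f hf c hc => by
    rw [← LinearMap.sub_apply]
    exact hdiff _ (by rw [LinearMap.comp_sub, hf, hL, sub_self]) c hc
  have hMK : ∀ φ, ∀ c ∈ M • K, L φ c ∈ M • K := fun φ c hc => by
    have h1 := Submodule.mem_map_of_mem (f := L φ) hc
    rw [Submodule.map_smul''] at h1
    refine Submodule.smul_mono le_rfl ?_ h1
    rintro _ ⟨z, hz, rfl⟩
    exact hLK φ z hz
  let mul : A → (A →ₗ[B k A G] A) := fun a => LinearMap.mulLeft (B k A G) a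
  let J : Ideal A → Submodule (B k A G) (Fin r → B k A G) := fun 𝔞 => M • K ⊔ ⨆ a : 𝔞, K.map (L (mul a))
  have hJmem : ∀ (𝔞 : Ideal A) (a : A), a ∈ 𝔞 → ∀ c ∈ K, L (mul a) c ∈ J 𝔞 := fun 𝔞 a ha c hc =>
    Submodule.mem_sup_right (Submodule.mem_iSup_of_mem (p := fun a : 𝔞 => K.map (L (mul a))) ⟨a, ha⟩
      (Submodule.mem_map_of_mem hc))
  let ρ : G → (A →ₗ[B k A G] A) := fun g =>
    { toFun := fun a => g • a
      map_add' := smul_add g
      map_smul' := fun b a => by
        show g • ((b : A) * a) = (b : A) * g • a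
        rw [MulSemiringAction.smul_mul, smul_coe] }
  let J₁ := J (maximalIdeal A)
  let Hset : Submonoid G :=
    { carrier := {g | ∀ c ∈ K, L (ρ g) c - c ∈ J₁}
      one_mem' := fun c hc => Submodule.mem_sup_left (by
        have h := hlift (ρ 1) LinearMap.id (LinearMap.ext fun z => (one_smul G (π z)).symm) c hc
        rw [LinearMap.id_apply] at h
        rw [← neg_sub]
        exact Submodule.neg_mem _ h)
      mul_mem' := fun {g h} hg hh c hc => by
        have e := hlift (ρ (g * h)) (L (ρ g) ∘ₗ L (ρ h)) (LinearMap.ext fun z => by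
          have e1 := LinearMap.congr_fun (hL (ρ g)) (L (ρ h) z)
          have e2 := LinearMap.congr_fun (hL (ρ h)) z
          simp only [LinearMap.comp_apply] at e1 e2 ⊢
          rw [e1, e2]
          exact (mul_smul g h (π z)).symm) c hc
        rw [LinearMap.comp_apply] at e
        have h2 := add_mem (hg (L (ρ h) c) (hLK _ c hc)) (hh c hc)
        have h3 := sub_mem h2 (Submodule.mem_sup_left e)
        convert h3 using 1
        abel }
  have hgen : ∀ g ∈ s, g ∈ Hset := by
    intro g hg c hc
    obtain ⟨ℓ, hℓm, hℓI⟩ := hℓ g hg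
    by_cases h0 : ℓ = 0
    · have : g = 1 := hfaith g fun a => by
        have := hℓI a
        rwa [h0, Ideal.span_singleton_zero, Ideal.mem_bot, sub_eq_zero] at this
      exact this ▸ Hset.one_mem c hc
    choose θ hθ using fun a => Ideal.mem_span_singleton'.1 (hℓI a)
    have hθl : ∀ a, ℓ * θ a = g • a - a := fun a => by rw [mul_comm]; exact hθ a
    let Θ : A →ₗ[B k A G] A :=
      { toFun := θ
        map_add' := fun a b => mul_left_cancel₀ h0 (by
          rw [mul_add, hθl, hθl, hθl, smul_add]; abel)
        map_smul' := fun b a => mul_left_cancel₀ h0 (by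
          show ℓ * θ ((b : A) * a) = ℓ * ((b : A) * θ a)
          rw [hθl, mul_left_comm, hθl, MulSemiringAction.smul_mul, smul_coe, mul_sub]) }
    have e := hlift (ρ g) (L (mul ℓ) ∘ₗ L Θ + LinearMap.id) (LinearMap.ext fun z => by
      have e1 := LinearMap.congr_fun (hL (mul ℓ)) (L Θ z)
      have e2 := LinearMap.congr_fun (hL Θ) z
      simp only [LinearMap.comp_apply] at e1 e2
      simp only [LinearMap.comp_apply, LinearMap.add_apply, LinearMap.id_apply, map_add]
      rw [e1, e2]
      show ℓ * θ (π z) + π z = g • π z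
      rw [hθl, sub_add_cancel]) c hc
    rw [LinearMap.add_apply, LinearMap.comp_apply, LinearMap.id_apply] at e
    have h2 := sub_mem (hJmem _ ℓ hℓm _ (hLK Θ c hc)) (Submodule.mem_sup_left e)
    convert h2 using 1
    abel
  have hall : ∀ g : G, g ∈ Hset := fun g => by
    have h : g ∈ (Subgroup.closure s).toSubmonoid := by rw [hs]; trivial
    rw [Subgroup.closure_toSubmonoid_of_finite] at h
    exact (Submonoid.closure_le.2 hgen) h
  have hK1 : K ≤ J₁ := fun c hc => by
    have h1 : (∑ g : G, L (ρ g)) c ∈ M • K := by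
      obtain ⟨ι', hι'⟩ := Module.projective_lifting_property π (Algebra.linearMap (B k A G) A) hπ
      have h0 : (ι' ∘ₗ tr k A G ∘ₗ π) c = 0 := by
        simp only [LinearMap.comp_apply, LinearMap.mem_ker.1 hc, map_zero]
      have h2 := hdiff ((∑ g : G, L (ρ g)) - ι' ∘ₗ tr k A G ∘ₗ π) (by
        rw [LinearMap.comp_sub, ← LinearMap.comp_assoc, hι', sub_eq_zero]
        refine LinearMap.ext fun z => ?_
        simp only [LinearMap.comp_apply, LinearMap.sum_apply, map_sum]
        refine (Finset.sum_congr rfl fun g _ => (show π (L (ρ g) z) = g • π z from LinearMap.congr_fun (hL (ρ g)) z)).trans ?_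
        rfl) c hc
      rwa [LinearMap.sub_apply, h0, sub_zero] at h2
    have h3 : ∑ g : G, (L (ρ g) c - c) ∈ J₁ := sum_mem fun g _ => hall g c hc
    rw [Finset.sum_sub_distrib, ← LinearMap.sum_apply, Finset.sum_const, Finset.card_univ] at h3
    have h4 := sub_mem (Submodule.mem_sup_left (T := ⨆ a : maximalIdeal A, K.map (L (mul a))) h1) h3
    rw [sub_sub_cancel, ← Nat.cast_smul_eq_nsmul (B k A G)] at h4
    have hN : IsUnit (Fintype.card G : B k A G) := by
      rw [← map_natCast (algebraMap k (B k A G))]
      exact (isUnit_iff_ne_zero.2 (by rwa [Nat.card_eq_fintype_card] at hG)).map _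
    exact (Submodule.smul_mem_iff_of_isUnit _ hN).1 h4
  have hKpow : ∀ j, 1 ≤ j → K ≤ J (maximalIdeal A ^ j) := fun j hj => by
    induction j, hj using Nat.le_induction with
    | base => rw [pow_one]; exact hK1
    | succ j hj ih =>
      refine hK1.trans (sup_le le_sup_left (iSup_le ?_))
      rintro ⟨a, ha⟩ _ ⟨z, hz, rfl⟩
      obtain ⟨w, hw, w', hw', rfl⟩ := Submodule.mem_sup.1 (ih hz)
      rw [map_add]
      refine add_mem (Submodule.mem_sup_left (hMK _ w hw)) ?_
      have hle : (⨆ b : ↥(maximalIdeal A ^ j), K.map (L (mul b))) ≤ (J (maximalIdeal A ^ (j + 1))).comap (L (mul a)) := by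
        refine iSup_le ?_
        rintro ⟨b, hb⟩ _ ⟨y, hy, rfl⟩
        have e := hlift (mul (a * b)) (L (mul a) ∘ₗ L (mul b)) (LinearMap.ext fun z => by
          have e1 := LinearMap.congr_fun (hL (mul a)) (L (mul b) z)
          have e2 := LinearMap.congr_fun (hL (mul b)) z
          simp only [LinearMap.comp_apply] at e1 e2 ⊢
          rw [e1, e2]
          exact (mul_assoc a b (π z)).symm) y hy
        rw [LinearMap.comp_apply] at e
        have h2 := add_mem (Submodule.mem_sup_left e) (hJmem (maximalIdeal A ^ (j + 1)) (a * b)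
          (by rw [pow_succ']; exact Ideal.mul_mem_mul ha hb) y hy)
        rw [sub_add_cancel] at h2
        exact h2
      exact hle hw'
  obtain ⟨N, hN⟩ := exists_pow_le (k := k) (A := A) (G := G)
  have hKM : K ≤ M • K := by
    refine (hKpow (N + 1) (by omega)).trans (sup_le le_rfl (iSup_le ?_))
    rintro ⟨a, ha⟩ _ ⟨y, hy, rfl⟩
    have ha' : a ∈ M.map (algebraMap (B k A G) A) := hN (Ideal.pow_le_pow_right (by omega) ha)
    suffices h : ∀ b ∈ M.map (algebraMap (B k A G) A), ∀ t : A, L (mul (t * b)) y ∈ M • K by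
      simpa using h a ha' 1
    intro b hb
    rw [Ideal.map] at hb
    induction hb using Submodule.span_induction with
    | mem b hb =>
      obtain ⟨β, hβ, rfl⟩ := hb
      intro t
      have e := hlift (mul (t * algebraMap (B k A G) A β)) (β • L (mul t)) (LinearMap.ext fun z => by
        have e1 := LinearMap.congr_fun (hL (mul t)) z
        simp only [LinearMap.comp_apply] at e1
        simp only [LinearMap.comp_apply, LinearMap.smul_apply, map_smul]
        rw [e1, Algebra.smul_def]
        show algebraMap (B k A G) A β * (t * π z) = t * algebraMap (B k A G) A β * π z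
        ring) y hy
      have h2 := sub_mem (Submodule.smul_mem_smul hβ (hLK (mul t) y hy)) e
      rwa [LinearMap.smul_apply, sub_sub_cancel] at h2
    | zero =>
      intro t
      have e := hlift (mul (t * 0)) 0 (LinearMap.ext fun z => by
        show π 0 = t * 0 * π z
        simp) y hy
      rw [LinearMap.zero_apply, zero_sub, Submodule.neg_mem_iff] at e
      exact e
    | add b b' _ _ h1 h2 =>
      intro t
      have e := hlift (mul (t * (b + b'))) (L (mul (t * b)) + L (mul (t * b'))) (LinearMap.ext fun z => by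
        have e1 := LinearMap.congr_fun (hL (mul (t * b))) z
        have e2 := LinearMap.congr_fun (hL (mul (t * b'))) z
        simp only [LinearMap.comp_apply] at e1 e2
        simp only [LinearMap.comp_apply, LinearMap.add_apply, map_add]
        rw [e1, e2]
        show t * b * π z + t * b' * π z = t * (b + b') * π z
        ring) y hy
      rw [LinearMap.add_apply] at e
      have h3 := sub_mem (add_mem (h1 t) (h2 t)) e
      rwa [sub_sub_cancel] at h3
    | smul s b _ h1 =>
      intro t
      rw [smul_eq_mul, ← mul_assoc]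
      exact h1 (t * s)
  have hK0 : K = ⊥ := Submodule.eq_bot_of_le_smul_of_le_jacobson_bot M K (IsNoetherian.noetherian K) hKM
    (IsLocalRing.maximalIdeal_le_jacobson ⊥)
  exact Module.Flat.of_linearEquiv (LinearEquiv.ofBijective π ⟨LinearMap.ker_eq_bot.1 hK0, hπ⟩).symm

end Free

end Groth.Agent.ConstAct26
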